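import Groth.Agent.GrpAlgLib.Cyc

/-!
Chinese remainder theorem for the group ring, and localizations at the cyclic quotients.
-/

set_option linter.unusedSectionVars false

universe u v

open W4c6equivkfinstab

namespace Groth.Agent.GrpAlgLib

variable {Λ : Type u} [CommRing Λ] {M : Type v} [AddCommGroup M] {B₀ : AddSubgroup M} [B₀.FiniteIndex]

theorem isUnit_index (hn : IsUnit ((B₀.index : ℕ) : Λ)) {B : AddSubgroup M} (h : B₀ ≤ B) :
    IsUnit ((B.index : ℕ) : Λ) :=
  isUnit_of_dvd_unit (map_dvd (Nat.castRingHom Λ) (AddSubgroup.index_dvd_of_le h)) hn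

theorem pairwise_cycKer (hn : IsUnit ((B₀.index : ℕ) : Λ)) :
    Pairwise (Function.onFun IsCoprime fun B : CycAbove B₀ => cycKer Λ M B.1) := by
  intro B B' hne
  have := AddSubgroup.finiteIndex_of_le B.2.1
  have := AddSubgroup.finiteIndex_of_le B'.2.1
  have := B.2.2
  have := B'.2.2
  exact cycKer_isCoprime Λ M (isUnit_index hn B.2.1) (isUnit_index hn B'.2.1)
    fun h => hne (Subtype.ext h)

theorem exists_sub_mem (hn : IsUnit ((B₀.index : ℕ) : Λ))
    (x : CycAbove B₀ → AddMonoidAlgebra Λ M) : ∃ r, ∀ B, r - x B ∈ cycKer Λ M B.1 := by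
  have := finite_cycAbove B₀
  exact Ideal.exists_forall_sub_mem_ideal (pairwise_cycKer hn) x

theorem mem_cycKer_iff (B : AddSubgroup M) (x : AddMonoidAlgebra Λ M) :
    x ∈ cycKer Λ M B ↔ cycQuotMap Λ M B x = 0 := by
  rw [← ker_cycQuotMap, RingHom.mem_ker]

theorem mem_locSubmonoid_iff (B : AddSubgroup M) (x : AddMonoidAlgebra Λ M) :
    x ∈ locSubmonoid Λ M B ↔ x - 1 ∈ cycKer Λ M B := by
  rw [mem_cycKer_iff, map_sub, map_one, sub_eq_zero]
  rfl

theorem quotMap_eq_zero_mem {B : AddSubgroup M} (h : B₀ ≤ B) {x : AddMonoidAlgebra Λ M}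
    (hx : quotMap Λ M B₀ x = 0) : x ∈ cycKer Λ M B := by
  have := RingHom.mem_ker.2 hx
  rw [ker_quotMap] at this
  exact Ideal.span_mono (Set.subset_union_of_subset_right (Set.image_mono h) _) this

theorem loc_cycQuot_subsingleton {B B' : AddSubgroup M} [B.FiniteIndex] [B'.FiniteIndex]
    [IsAddCyclic (M ⧸ B)] [IsAddCyclic (M ⧸ B')] (hne : B ≠ B')
    (hu : IsUnit ((B.index * B'.index : ℕ) : Λ)) :
    Subsingleton (LocalizedModule (locSubmonoid Λ M B') (CycQuot Λ (M ⧸ B))) := by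
  rw [Nat.cast_mul, IsUnit.mul_iff] at hu
  obtain ⟨i, hi, j, hj, hij⟩ := Ideal.isCoprime_iff_exists.1 (cycKer_isCoprime Λ M hu.1 hu.2 hne)
  rw [LocalizedModule.subsingleton_iff]
  refine fun m => ⟨i, (mem_locSubmonoid_iff B' i).2 ?_, ?_⟩
  · rw [show i - 1 = -j by linear_combination hij]
    exact neg_mem hj
  · obtain ⟨y, rfl⟩ := Ideal.Quotient.mk_surjective m
    show Ideal.Quotient.mk _ (quotMap Λ M B i * y) = 0
    have h0 : Ideal.Quotient.mk (cycIdeal Λ (M ⧸ B)) (quotMap Λ M B i) = 0 := (mem_cycKer_iff B i).1 hi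
    rw [map_mul, h0, zero_mul]

theorem loc_quot_subsingleton {B₁ B : AddSubgroup M} [B.FiniteIndex]
    [IsAddCyclic (M ⧸ B)] (hle : ¬ B₁ ≤ B) (hd : IsUnit ((B.index : ℕ) : Λ)) :
    Subsingleton (LocalizedModule (locSubmonoid Λ M B) (AddMonoidAlgebra Λ (M ⧸ B₁))) := by
  obtain ⟨i, hi, j, hj, hij⟩ := Ideal.isCoprime_iff_exists.1 (aug_isCoprime_cycKer Λ M hd hle)
  rw [LocalizedModule.subsingleton_iff]
  refine fun m => ⟨i, (mem_locSubmonoid_iff B i).2 ?_, ?_⟩
  · rw [show i - 1 = -j by linear_combination hij]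
    exact neg_mem hj
  · rw [Algebra.smul_def]
    show quotMap Λ M B₁ i * m = 0
    rw [RingHom.mem_ker.1 hi, zero_mul]

theorem bijective_pi_cycQuotMap {A : Type v} [AddCommGroup A] [Finite A]
    (hA : IsUnit ((Nat.card A : ℕ) : Λ)) :
    Function.Bijective (RingHom.pi fun B : {B : AddSubgroup A // IsAddCyclic (A ⧸ B)} =>
      cycQuotMap Λ A B.1) := by
  have hn : IsUnit (((⊥ : AddSubgroup A).index : ℕ) : Λ) := by rwa [AddSubgroup.index_bot]
  constructor
  · rw [injective_iff_map_eq_zero]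
    intro x hx
    have h := iInf_cycKer (B₀ := (⊥ : AddSubgroup A)) hn
      fun B => (mem_cycKer_iff B.1 x).2 (congrFun hx ⟨B.1, B.2.2⟩)
    refine AddMonoidAlgebra.mapDomain_injective (f := QuotientAddGroup.mk' (⊥ : AddSubgroup A)) ?_
      (h.trans (AddMonoidAlgebra.mapDomain_zero _).symm)
    exact (AddMonoidHom.ker_eq_bot_iff _).1 (QuotientAddGroup.ker_mk' _)
  · intro y
    choose x hx using fun B : CycAbove (⊥ : AddSubgroup A) =>
      cycQuotMap_surjective Λ A B.1 (y ⟨B.1, B.2.2⟩)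
    obtain ⟨r, hr⟩ := exists_sub_mem hn x
    refine ⟨r, funext fun B => ?_⟩
    show cycQuotMap Λ A B.1 r = y B
    have := (mem_cycKer_iff B.1 _).1 (hr ⟨B.1, bot_le, B.2⟩)
    rw [map_sub, sub_eq_zero] at this
    exact this.trans (hx ⟨B.1, bot_le, B.2⟩)

theorem bijective_pi_mk (hn : IsUnit ((B₀.index : ℕ) : Λ)) :
    Function.Bijective (LinearMap.pi (R := AddMonoidAlgebra Λ M) fun B : CycAbove B₀ =>
      LocalizedModule.mkLinearMap (locSubmonoid Λ M B.1) (AddMonoidAlgebra Λ (M ⧸ B₀))) := by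
  classical
  constructor
  · rw [← LinearMap.ker_eq_bot, Submodule.eq_bot_iff]
    intro x hx
    obtain ⟨r, rfl⟩ := quotMap_surjective Λ M B₀ x
    refine iInf_cycKer hn fun B => ?_
    have h : LocalizedModule.mk (quotMap Λ M B₀ r) (1 : locSubmonoid Λ M B.1) = 0 :=
      congrFun (LinearMap.mem_ker.1 hx) B
    rw [← LocalizedModule.zero_mk (1 : locSubmonoid Λ M B.1), LocalizedModule.mk_eq] at h
    obtain ⟨u, hu⟩ := h
    simp only [one_smul, smul_zero] at hu
    rw [Submonoid.smul_def, Algebra.smul_def] at hu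
    have h1 : quotMap Λ M B₀ (u.1 * r) = 0 := by rw [map_mul]; exact hu
    have h2 := quotMap_eq_zero_mem B.2.1 h1
    rw [show r = u.1 * r - (u.1 - 1) * r by ring]
    exact sub_mem h2 (Ideal.mul_mem_right _ _ ((mem_locSubmonoid_iff B.1 u.1).1 u.2))
  · intro y
    have hy : ∀ B : CycAbove B₀, ∃ (r : AddMonoidAlgebra Λ M) (s : locSubmonoid Λ M B.1),
        y B = LocalizedModule.mk (quotMap Λ M B₀ r) s := fun B => by
      induction hB : y B using LocalizedModule.induction_on with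
      | h m s =>
        obtain ⟨r, rfl⟩ := quotMap_surjective Λ M B₀ m
        exact ⟨r, s, rfl⟩
    choose r₀ s hrs using hy
    obtain ⟨r, hr⟩ := exists_sub_mem hn r₀
    refine ⟨quotMap Λ M B₀ r, funext fun B => ?_⟩
    obtain ⟨t, ht⟩ := exists_sub_mem hn (Function.update (0 : CycAbove B₀ → AddMonoidAlgebra Λ M) B 1)
    have htB : t - 1 ∈ cycKer Λ M B.1 := by simpa using ht B
    rw [hrs B]
    show LocalizedModule.mk (quotMap Λ M B₀ r) (1 : locSubmonoid Λ M B.1) = _
    refine LocalizedModule.mk_eq.2 ⟨⟨t, (mem_locSubmonoid_iff B.1 t).2 htB⟩, ?_⟩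
    simp only [Submonoid.smul_def, one_smul, Algebra.smul_def]
    show quotMap Λ M B₀ t * (quotMap Λ M B₀ (s B).1 * quotMap Λ M B₀ r) =
      quotMap Λ M B₀ t * quotMap Λ M B₀ (r₀ B)
    rw [← map_mul, ← map_mul, ← map_mul, ← sub_eq_zero, ← map_sub]
    refine iInf_cycKer hn fun B' => ?_
    by_cases h : B' = B
    · subst h
      rw [show t * ((s B').1 * r) - t * r₀ B' =
        t * (((s B').1 - 1) * r + (r - r₀ B')) by ring]
      exact Ideal.mul_mem_left _ _
        (add_mem (Ideal.mul_mem_right _ _ ((mem_locSubmonoid_iff _ _).1 (s B').2)) (hr B'))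
    · have h0 := ht B'
      rw [Function.update_of_ne h, Pi.zero_apply, sub_zero] at h0
      exact sub_mem (Ideal.mul_mem_right _ _ h0) (Ideal.mul_mem_right _ _ h0)

end Groth.Agent.GrpAlgLib
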