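import Groth.Prelude.Def_W4c6equivkfinstabCyc
import Mathlib.RingTheory.Ideal.IdempotentFG
import Mathlib.RingTheory.Ideal.Quotient.Operations
import Mathlib.RingTheory.Polynomial.Cyclotomic.Roots
import Mathlib.FieldTheory.Separable
import Mathlib.RingTheory.IntegralDomain

/-!
Kernels of the cyclotomic quotients of a group ring.
-/

set_option linter.unusedSectionVars false

universe u v

open Polynomial W4c6equivkfinstab

namespace Groth.Agent.GrpAlgLib

variable (Λ : Type u) [CommRing Λ] (M : Type v) [AddCommGroup M]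

/-- the element `[m]` -/
noncomputable abbrev el (m : M) : AddMonoidAlgebra Λ M := AddMonoidAlgebra.single m 1

/-- `quotMap` as an algebra map -/
noncomputable def qA (B : AddSubgroup M) : AddMonoidAlgebra Λ M →ₐ[Λ] AddMonoidAlgebra Λ (M ⧸ B) :=
  AddMonoidAlgebra.mapDomainAlgHom Λ Λ (QuotientAddGroup.mk' B)

theorem qA_apply (B : AddSubgroup M) (x : AddMonoidAlgebra Λ M) : qA Λ M B x = quotMap Λ M B x := rfl

theorem quotMap_single (B : AddSubgroup M) (m : M) (r : Λ) :
    quotMap Λ M B (AddMonoidAlgebra.single m r) = AddMonoidAlgebra.single (m : M ⧸ B) r := by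
  show AddMonoidAlgebra.mapDomain _ _ = _
  rw [AddMonoidAlgebra.mapDomain_single]
  rfl

theorem quotMap_surjective (B : AddSubgroup M) : Function.Surjective (quotMap Λ M B) := fun y =>
  ⟨AddMonoidAlgebra.mapDomain Quotient.out y, by
    induction y using AddMonoidAlgebra.induction_linear with
    | zero => simp
    | add a b ha hb => rw [AddMonoidAlgebra.mapDomain_add, map_add, ha, hb]
    | single c r => rw [AddMonoidAlgebra.mapDomain_single, quotMap_single, QuotientAddGroup.out_eq']⟩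

/-- the augmentation generators of a subgroup -/
def augSet (B : AddSubgroup M) : Set (AddMonoidAlgebra Λ M) := (fun b => el Λ M b - 1) '' (B : Set M)

/-- the cyclotomic generators -/
def cycSet (B : AddSubgroup M) : Set (AddMonoidAlgebra Λ M) :=
  (fun g => aeval (el Λ M g) (cyclotomic (Nat.card (M ⧸ B)) Λ)) ''
    {g : M | AddSubgroup.zmultiples (g : M ⧸ B) = ⊤}

/-- explicit generators for the kernel of `cycQuotMap` -/
noncomputable def cycKer (B : AddSubgroup M) : Ideal (AddMonoidAlgebra Λ M) :=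
  Ideal.span (cycSet Λ M B ∪ augSet Λ M B)

theorem ker_quotMap (B : AddSubgroup M) :
    RingHom.ker (quotMap Λ M B) = Ideal.span (augSet Λ M B) := by
  refine le_antisymm (fun x hx => ?_) (Ideal.span_le.2 ?_)
  · have key : ∀ y, y - AddMonoidAlgebra.mapDomain Quotient.out (quotMap Λ M B y) ∈
        Ideal.span (augSet Λ M B) := by
      intro y
      induction y using AddMonoidAlgebra.induction_linear with
      | zero => simp
      | add a b ha hb =>
        rw [map_add, AddMonoidAlgebra.mapDomain_add, add_sub_add_comm]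
        exact add_mem ha hb
      | single m r =>
        rw [quotMap_single, AddMonoidAlgebra.mapDomain_single]
        set m' : M := Quotient.out (m : M ⧸ B) with hm'
        have hb : m - m' ∈ B := by
          rw [← QuotientAddGroup.eq_iff_sub_mem, hm', QuotientAddGroup.out_eq']
        rw [show AddMonoidAlgebra.single m r - AddMonoidAlgebra.single m' r =
            AddMonoidAlgebra.single m' r * (el Λ M (m - m') - 1) by
          rw [mul_sub, mul_one, el, AddMonoidAlgebra.single_mul_single, mul_one, add_sub_cancel]]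
        exact Ideal.mul_mem_left _ _ (Ideal.subset_span ⟨_, hb, rfl⟩)
    have := key x
    rwa [RingHom.mem_ker.1 hx, AddMonoidAlgebra.mapDomain_zero, sub_zero] at this
  · rintro _ ⟨b, hb, rfl⟩
    rw [SetLike.mem_coe, RingHom.mem_ker, map_sub, map_one, el, quotMap_single,
      (QuotientAddGroup.eq_zero_iff b).2 hb, ← AddMonoidAlgebra.one_def, sub_self]

theorem cycIdeal_eq_map (B : AddSubgroup M) :
    cycIdeal Λ (M ⧸ B) = (Ideal.span (cycSet Λ M B)).map (quotMap Λ M B) := by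
  rw [Ideal.map_span, cycIdeal]
  congr 1
  ext x
  constructor
  · rintro ⟨g, hg, rfl⟩
    obtain ⟨m, rfl⟩ := QuotientAddGroup.mk_surjective g
    refine ⟨_, ⟨m, hg, rfl⟩, ?_⟩
    rw [← qA_apply, ← aeval_algHom_apply, qA_apply, quotMap_single]
  · rintro ⟨_, ⟨m, hm, rfl⟩, rfl⟩
    refine ⟨_, hm, ?_⟩
    rw [← qA_apply, ← aeval_algHom_apply, qA_apply, quotMap_single]

theorem ker_cycQuotMap (B : AddSubgroup M) :
    RingHom.ker (cycQuotMap Λ M B) = cycKer Λ M B := by
  rw [cycKer, Ideal.span_union, ← ker_quotMap, cycQuotMap, ← RingHom.comap_ker, Ideal.mk_ker,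
    cycIdeal_eq_map, Ideal.comap_map_of_surjective _ (quotMap_surjective Λ M B)]
  rfl

theorem cycQuotMap_surjective (B : AddSubgroup M) : Function.Surjective (cycQuotMap Λ M B) :=
  Ideal.Quotient.mk_surjective.comp (quotMap_surjective Λ M B)

section Char

variable {Λ M} {k : Type*} [CommRing k] [IsDomain k] (χ : AddMonoidAlgebra Λ M →+* k)

theorem char_add (a b : M) : χ (el Λ M (a + b)) = χ (el Λ M a) * χ (el Λ M b) := by
  rw [← map_mul, el, el, el, AddMonoidAlgebra.single_mul_single, mul_one]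

theorem char_zero' : χ (el Λ M 0) = 1 := by
  rw [el, ← AddMonoidAlgebra.one_def, map_one]

theorem char_nsmul (n : ℕ) (a : M) : χ (el Λ M (n • a)) = χ (el Λ M a) ^ n := by
  induction n with
  | zero => rw [zero_nsmul, pow_zero, char_zero']
  | succ n ih => rw [succ_nsmul, char_add, ih, pow_succ]

include χ in
theorem isUnit_natCast_char {n : ℕ} (h : IsUnit (n : Λ)) : IsUnit (n : k) := by
  simpa using h.map (χ.comp (algebraMap Λ (AddMonoidAlgebra Λ M)))

theorem char_aeval_cyclotomic (g : M) (d : ℕ) :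
    χ (aeval (el Λ M g) (cyclotomic d Λ)) = (cyclotomic d k).eval (χ (el Λ M g)) := by
  rw [aeval_def, hom_eval₂, ← eval_map, map_cyclotomic]

/-- a character vanishing on `cycKer B` has kernel `B` -/
theorem char_eq_one_iff {B : AddSubgroup M} [B.FiniteIndex] [IsAddCyclic (M ⧸ B)]
    (hd : IsUnit ((B.index : ℕ) : Λ)) (hχ : cycKer Λ M B ≤ RingHom.ker χ) (m : M) :
    χ (el Λ M m) = 1 ↔ m ∈ B := by
  have hB : ∀ b ∈ B, χ (el Λ M b) = 1 := fun b hb => by
    have := hχ (Ideal.subset_span (Or.inr ⟨b, hb, rfl⟩))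
    rwa [RingHom.mem_ker, map_sub, map_one, sub_eq_zero] at this
  refine ⟨fun hm => ?_, hB m⟩
  obtain ⟨gb, hgb⟩ := IsAddCyclic.exists_addMonoid_generator (α := M ⧸ B)
  obtain ⟨g, rfl⟩ := QuotientAddGroup.mk_surjective gb
  have htop : AddSubgroup.zmultiples (g : M ⧸ B) = ⊤ :=
    eq_top_iff.2 fun y _ => mem_multiples_iff_mem_zmultiples.1 (hgb y)
  have hk : IsUnit ((B.index : ℕ) : k) := isUnit_natCast_char χ hd
  have : NeZero ((B.index : ℕ) : k) := ⟨hk.ne_zero⟩
  have hroot : IsPrimitiveRoot (χ (el Λ M g)) B.index := by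
    rw [← isRoot_cyclotomic_iff, IsRoot.def, ← char_aeval_cyclotomic]
    exact RingHom.mem_ker.1 (hχ (Ideal.subset_span (Or.inl ⟨g, htop, rfl⟩)))
  obtain ⟨j, hj⟩ := AddSubmonoid.mem_multiples_iff _ _ |>.1 (hgb (m : M ⧸ B))
  have hb : m - j • g ∈ B := by
    rw [← QuotientAddGroup.eq_iff_sub_mem, ← hj, QuotientAddGroup.mk_nsmul]
  have h1 : χ (el Λ M g) ^ j = 1 := by
    rw [← hm, ← add_sub_cancel (j • g) m, char_add, hB _ hb, mul_one, char_nsmul]
  obtain ⟨t, ht⟩ := hroot.dvd_of_pow_eq_one j h1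
  rw [← QuotientAddGroup.eq_zero_iff, ← hj, ht, mul_nsmul,
    show (B.index : ℕ) • (g : M ⧸ B) = 0 by
      have h := card_nsmul_eq_zero' (x := (g : M ⧸ B))
      exact h, nsmul_zero]

end Char

theorem isCoprime_of_forall_char {I J : Ideal (AddMonoidAlgebra Λ M)}
    (h : ∀ P : Ideal (AddMonoidAlgebra Λ M), P.IsPrime → I ≤ P → J ≤ P → False) : IsCoprime I J := by
  rw [Ideal.isCoprime_iff_sup_eq]
  by_contra hne
  obtain ⟨P, hP, hle⟩ := Ideal.exists_le_maximal _ hne
  exact h P hP.isPrime (le_sup_left.trans hle) (le_sup_right.trans hle)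

theorem cycKer_isCoprime {B B' : AddSubgroup M} [B.FiniteIndex] [B'.FiniteIndex]
    [IsAddCyclic (M ⧸ B)] [IsAddCyclic (M ⧸ B')] (hd : IsUnit ((B.index : ℕ) : Λ))
    (hd' : IsUnit ((B'.index : ℕ) : Λ)) (hne : B ≠ B') :
    IsCoprime (cycKer Λ M B) (cycKer Λ M B') := by
  refine isCoprime_of_forall_char Λ M fun P hP h1 h2 => hne (AddSubgroup.ext fun m => ?_)
  have e := Ideal.mk_ker (I := P)
  rw [← char_eq_one_iff (Ideal.Quotient.mk P) hd (h1.trans e.ge),
    char_eq_one_iff (Ideal.Quotient.mk P) hd' (h2.trans e.ge)]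

theorem aug_isCoprime_cycKer {B₀ B : AddSubgroup M} [B.FiniteIndex] [IsAddCyclic (M ⧸ B)]
    (hd : IsUnit ((B.index : ℕ) : Λ)) (hle : ¬ B₀ ≤ B) :
    IsCoprime (RingHom.ker (quotMap Λ M B₀)) (cycKer Λ M B) := by
  refine isCoprime_of_forall_char Λ M fun P hP h1 h2 => hle fun m hm => ?_
  have e := Ideal.mk_ker (I := P)
  rw [← char_eq_one_iff (Ideal.Quotient.mk P) hd (h2.trans e.ge), ← sub_eq_zero,
    ← map_one (Ideal.Quotient.mk P), ← map_sub, Ideal.Quotient.eq_zero_iff_mem]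
  exact h1 (ker_quotMap Λ M B₀ ▸ Ideal.subset_span ⟨m, hm, rfl⟩)

variable {Λ M}

theorem exists_mul_sq {R : Type*} [CommRing R] [Algebra Λ R] {n : ℕ} (hn : IsUnit (n : Λ))
    {x : R} (hx : x ^ n = 1) {p : Λ[X]} (hp : p ∣ X ^ n - 1) :
    aeval x p ∈ Ideal.span {aeval x p * aeval x p} := by
  obtain ⟨r, hr⟩ := hp
  have hsep : (p * r).Separable := by
    rw [← hr]
    simpa using separable_X_pow_sub_C_unit (1 : Λˣ) hn
  obtain ⟨a, b, hab⟩ := hsep.isCoprime
  have h0 : aeval x p * aeval x r = 0 := by rw [← map_mul, ← hr]; simp [hx]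
  have h1 : aeval x a * aeval x p + aeval x b * aeval x r = 1 := by
    rw [← map_mul, ← map_mul, ← map_add, hab, map_one]
  exact Ideal.mem_span_singleton'.2 ⟨aeval x a, by linear_combination (aeval x p) * h1 - aeval x b * h0⟩

/-- the cyclic subgroups above `B₀` -/
abbrev CycAbove (B₀ : AddSubgroup M) := {B : AddSubgroup M // B₀ ≤ B ∧ IsAddCyclic (M ⧸ B)}

theorem finite_cycAbove (B₀ : AddSubgroup M) [B₀.FiniteIndex] : Finite (CycAbove B₀) :=
  Finite.of_injective (fun B => AddSubgroup.map (QuotientAddGroup.mk' B₀) B.1) fun B B' h => by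
    have := congrArg (AddSubgroup.comap (QuotientAddGroup.mk' B₀)) h
    simp only [AddSubgroup.comap_map_eq, QuotientAddGroup.ker_mk', sup_eq_left.2 B.2.1,
      sup_eq_left.2 B'.2.1] at this
    exact Subtype.ext this

theorem quotMap_pow_index (B₀ : AddSubgroup M) (m : M) :
    (quotMap Λ M B₀ (el Λ M m)) ^ B₀.index = 1 := by
  rw [← map_pow, el, AddMonoidAlgebra.single_pow, one_pow, quotMap_single, QuotientAddGroup.mk_nsmul,
    AddMonoidAlgebra.one_def]
  congr 1
  exact card_nsmul_eq_zero' (x := (m : M ⧸ B₀))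

theorem map_cycKer_idempotent {B₀ : AddSubgroup M} [B₀.FiniteIndex]
    (hn : IsUnit ((B₀.index : ℕ) : Λ)) (B : AddSubgroup M) (hB : B₀ ≤ B) :
    ∃ e, IsIdempotentElem e ∧ (cycKer Λ M B).map (quotMap Λ M B₀) = Ideal.span {e} := by
  set q := quotMap Λ M B₀ with hq
  rw [cycKer, Ideal.map_span]
  have hval : ∀ (g : M) (p : Λ[X]), q (aeval (el Λ M g) p) =
      aeval (AddMonoidAlgebra.single (g : M ⧸ B₀) (1 : Λ)) p := fun g p => by
    rw [hq, ← qA_apply, ← aeval_algHom_apply, qA_apply, quotMap_single]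
  have hfg : (Ideal.span (q '' (cycSet Λ M B ∪ augSet Λ M B))).FG := by
    refine Submodule.fg_span (Set.Finite.subset (Set.Finite.union
      (Set.finite_range fun c : M ⧸ B₀ => aeval (AddMonoidAlgebra.single c (1 : Λ))
        (cyclotomic (Nat.card (M ⧸ B)) Λ))
      (Set.finite_range fun c : M ⧸ B₀ => AddMonoidAlgebra.single c (1 : Λ) - 1)) ?_)
    rintro _ ⟨x, (⟨g, _, rfl⟩ | ⟨b, _, rfl⟩), rfl⟩
    · exact Or.inl ⟨(g : M ⧸ B₀), (hval g _).symm⟩
    · refine Or.inr ⟨(b : M ⧸ B₀), ?_⟩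
      show _ = q (el Λ M b - 1)
      rw [map_sub, map_one, hq, el, quotMap_single]
  refine (Ideal.isIdempotentElem_iff_of_fg _ hfg).1 (le_antisymm Ideal.mul_le_left ?_)
  rw [Ideal.span_le]
  rintro y hy
  suffices h : y ∈ Ideal.span {y * y} from
    (Ideal.span_singleton_le_iff_mem _).2 (Ideal.mul_mem_mul (Ideal.subset_span hy)
      (Ideal.subset_span hy)) h
  obtain ⟨x, (⟨g, _, rfl⟩ | ⟨b, _, rfl⟩), rfl⟩ := hy
  · show q (aeval _ _) ∈ _
    rw [← qA_apply Λ M B₀, ← aeval_algHom_apply]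
    refine exists_mul_sq hn (quotMap_pow_index B₀ g) ((cyclotomic.dvd_X_pow_sub_one _ Λ).trans ?_)
    obtain ⟨c, hc⟩ : Nat.card (M ⧸ B) ∣ B₀.index := AddSubgroup.index_dvd_of_le hB
    rw [hc, pow_mul]
    exact sub_one_dvd_pow_sub_one _ _
  · show q (el Λ M b - 1) ∈ Ideal.span {q (el Λ M b - 1) * q (el Λ M b - 1)}
    have e : q (el Λ M b - 1) = aeval (q (el Λ M b)) (X - 1 : Λ[X]) := by simp
    rw [e]
    exact exists_mul_sq hn (quotMap_pow_index B₀ b) (sub_one_dvd_pow_sub_one _ _)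

/-- every character is attached to a cyclic quotient -/
theorem exists_le_ker_char {k : Type*} [CommRing k] [IsDomain k]
    (χ : AddMonoidAlgebra Λ M →+* k) {B₀ : AddSubgroup M} [B₀.FiniteIndex]
    (h₀ : ∀ b ∈ B₀, χ (el Λ M b) = 1) :
    ∃ B : CycAbove B₀, cycKer Λ M B.1 ≤ RingHom.ker χ := by
  let ψ : M →+ Additive kˣ :=
    MonoidHom.toAdditiveRight (χ.toMonoidHom.comp (AddMonoidAlgebra.of Λ M)).toHomUnits
  have hker : ∀ m, m ∈ ψ.ker ↔ χ (el Λ M m) = 1 := fun m => Units.ext_iff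
  obtain ⟨B, hBdef⟩ : ∃ B, B = ψ.ker := ⟨_, rfl⟩
  have hB : ∀ m, m ∈ B ↔ χ (el Λ M m) = 1 := hBdef ▸ hker
  have hB₀ : B₀ ≤ B := fun b hb => (hB b).2 (h₀ b hb)
  have : B.FiniteIndex := AddSubgroup.finiteIndex_of_le hB₀
  obtain ⟨f, hf, hfm⟩ : ∃ f : Multiplicative (M ⧸ B) →* k, Function.Injective f ∧
      ∀ m : M, f (Multiplicative.ofAdd (m : M ⧸ B)) = χ (el Λ M m) := by
    subst hBdef
    exact ⟨(Units.coeHom k).comp (AddMonoidHom.toMultiplicativeLeft (QuotientAddGroup.kerLift ψ)),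
      Units.val_injective.comp (QuotientAddGroup.kerLift_injective ψ), fun m => rfl⟩
  have hcyc : IsAddCyclic (M ⧸ B) :=
    isCyclic_multiplicative_iff.1 (isCyclic_of_injective_ringHom f hf)
  refine ⟨⟨B, hB₀, hcyc⟩, ?_⟩
  rw [cycKer, Ideal.span_le]
  rintro _ (⟨g, hg, rfl⟩ | ⟨b, hb, rfl⟩)
  · rw [SetLike.mem_coe, RingHom.mem_ker, char_aeval_cyclotomic]
    refine IsPrimitiveRoot.isRoot_cyclotomic Nat.card_pos ?_
    have h := IsPrimitiveRoot.orderOf (f (Multiplicative.ofAdd (g : M ⧸ B)))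
    rw [orderOf_injective f hf, orderOf_ofAdd_eq_addOrderOf,
      addOrderOf_eq_card_of_forall_mem_zmultiples (fun y => hg ▸ AddSubgroup.mem_top y), hfm] at h
    exact h
  · rw [SetLike.mem_coe, RingHom.mem_ker, map_sub, map_one, (hB b).1 hb, sub_self]


theorem exists_map_le_ker (B₀ : AddSubgroup M) [B₀.FiniteIndex] {k : Type max u v} [CommRing k] [IsDomain k]
    (ρ : AddMonoidAlgebra Λ (M ⧸ B₀) →+* k) :
    ∃ B : CycAbove B₀, (cycKer Λ M B.1).map (quotMap Λ M B₀) ≤ RingHom.ker ρ := by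
  obtain ⟨B, hle⟩ := exists_le_ker_char (ρ.comp (quotMap Λ M B₀)) (B₀ := B₀) (fun b hb => by
      rw [RingHom.comp_apply, quotMap_single, (QuotientAddGroup.eq_zero_iff b).2 hb,
        ← AddMonoidAlgebra.one_def, map_one])
  refine ⟨B, Ideal.map_le_iff_le_comap.2 ?_⟩
  rw [RingHom.comap_ker]
  exact hle

theorem exists_map_le_prime (B₀ : AddSubgroup M) [B₀.FiniteIndex]
    (P : Ideal (AddMonoidAlgebra Λ (M ⧸ B₀))) [P.IsPrime] :
    ∃ B : CycAbove B₀, (cycKer Λ M B.1).map (quotMap Λ M B₀) ≤ P := by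
  have := exists_map_le_ker B₀ (Ideal.Quotient.mk P)
  rwa [Ideal.mk_ker] at this

/-- the intersection of the `cycKer` above `B₀` is the kernel of `quotMap B₀` -/
theorem iInf_cycKer {B₀ : AddSubgroup M} [B₀.FiniteIndex] (hn : IsUnit ((B₀.index : ℕ) : Λ))
    {x : AddMonoidAlgebra Λ M} (hx : ∀ B : CycAbove B₀, x ∈ cycKer Λ M B.1) :
    quotMap Λ M B₀ x = 0 := by
  classical
  have := finite_cycAbove B₀
  have := Fintype.ofFinite (CycAbove B₀)
  set q := quotMap Λ M B₀ with hq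
  choose e he hspan using fun B : CycAbove B₀ => map_cycKer_idempotent hn B.1 B.2.1
  have hmul : ∀ B, q x * e B = q x := fun B => by
    obtain ⟨c, hc⟩ := Ideal.mem_span_singleton'.1 (hspan B ▸ Ideal.mem_map_of_mem q (hx B))
    rw [← hc, mul_assoc, (he B).eq]
  have hall : ∀ s : Finset (CycAbove B₀), q x * ∏ B ∈ s, e B = q x := by
    intro s
    induction s using Finset.induction_on with
    | empty => simp
    | insert a s ha ih => rw [Finset.prod_insert ha, ← mul_assoc, hmul, ih]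
  have hnil : ∀ P : Ideal (AddMonoidAlgebra Λ (M ⧸ B₀)), P.IsPrime →
      ∃ B : CycAbove B₀, e B ∈ P := by
    intro P hP
    obtain ⟨B, h⟩ := exists_map_le_prime B₀ P
    exact ⟨B, h (hspan B ▸ Ideal.mem_span_singleton_self _)⟩
  have hidem : IsIdempotentElem (∏ B, e B) := by
    rw [IsIdempotentElem, ← Finset.prod_mul_distrib]
    exact Finset.prod_congr rfl fun B _ => he B
  have hnilp : IsNilpotent (∏ B, e B) := by
    rw [nilpotent_iff_mem_prime]
    intro P hP
    obtain ⟨B, hB⟩ := hnil P hP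
    exact Ideal.mem_of_dvd _ (Finset.dvd_prod_of_mem e (Finset.mem_univ B)) hB
  rw [← hall Finset.univ, IsIdempotentElem.eq_zero_of_isNilpotent hidem hnilp, mul_zero]

end Groth.Agent.GrpAlgLib
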